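import Groth.Agent.KFlat.Amp.Shift
import Groth.Agent.KFlat.Mon.Compare
import Groth.Agent.KFlat.RingFlat
import Mathlib.Algebra.Homology.DerivedCategory.Fractions

/-!
Tensoring with a K-flat complex vanishing below `c` raises bounds below by `c`.
-/

set_option autoImplicit false

universe u

open CategoryTheory CategoryTheory.Limits MonoidalCategory HomologicalComplex
attribute [local instance] HasDerivedCategory.standard

namespace Groth.Agent.KFlat.Amp

open Groth.Agent.KFlat Groth.Agent.KFlat.Mon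

variable {A : Type u} [CommRing A]

lemma isZero_X_tensor (P C : DRing.Cx A) (c N : ℤ) (hP : ∀ p, p < c → IsZero (P.X p))
    (hC : ∀ q, q < N → IsZero (C.X q)) (t : ℤ) (ht : t < c + N) : IsZero (((tensR (curriedTensor (ModuleCat.{u} A)) P).obj C).X t) := by
  refine (IsZero.iff_id_eq_zero _).2 (mapBifunctor.hom_ext fun p q h => ?_)
  by_cases hp : p < c
  · exact (Functor.map_isZero ((curriedTensor (ModuleCat.{u} A)).flip.obj _) (hP p hp)).eq_of_src _ _
  · exact (Functor.map_isZero _ (hC q (by have h' : p + q = t := h; omega))).eq_of_src _ _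

lemma isZero_homology_tensor (P C : DRing.Cx A) (c N : ℤ) (hP : ∀ p, p < c → IsZero (P.X p))
    (hfl : FlatL (curriedTensor (ModuleCat.{u} A)) P) (hC : ∀ l, l < N → IsZero (C.homology l)) (l : ℤ) (hl : l < c + N) :
    IsZero (((tensR (curriedTensor (ModuleCat.{u} A)) P).obj C).homology l) := by
  have : CochainComplex.IsGE C N := (CochainComplex.isGE_iff _ _).2 fun i hi =>
    (C.exactAt_iff_isZero_homology i).2 (hC i hi)
  have := hfl.quasiIso (curriedTensor (ModuleCat.{u} A)) (CochainComplex.πTruncGE C N) inferInstance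
  refine IsZero.of_iso ?_ (asIso (homologyMap ((tensR (curriedTensor (ModuleCat.{u} A)) P).map (CochainComplex.πTruncGE C N)) l))
  exact ShortComplex.isZero_homology_of_isZero_X₂ _
    (isZero_X_tensor P _ c N hP (fun q hq => CochainComplex.isZero_of_isStrictlyGE _ N q hq) l hl)

/-- `P ⊗ -` preserves isomorphisms on low cohomology. -/
lemma isIso_homologyMap_tensor (P : DRing.Cx A) (c N : ℤ) (hP : ∀ p, p < c → IsZero (P.X p)) (hfl : FlatL (curriedTensor (ModuleCat.{u} A)) P)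
    {X Y : DRing.Cx A} (g : X ⟶ Y) (hg : ∀ j, j ≤ N → IsIso (homologyMap g j)) (k : ℤ) (hk : k < c + N) :
    IsIso (homologyMap ((tensR (curriedTensor (ModuleCat.{u} A)) P).map g) k) := by
  let T := tensR (curriedTensor (ModuleCat.{u} A)) P
  let cn : DRing.Cx A := CochainComplex.mappingCone (𝟙 X)
  let i : X ⟶ Y ⊞ cn := biprod.lift g (CochainComplex.mappingCone.inr (𝟙 X))
  let r : ∀ n, (Y ⊞ cn).X n ⟶ X.X n := fun n =>
    (biprod.snd : Y ⊞ cn ⟶ cn).f n ≫ (CochainComplex.mappingCone.snd (𝟙 X)).v n n (add_zero n)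
  have hr : ∀ n, i.f n ≫ r n = 𝟙 _ := fun n => by
    dsimp only [r, i]
    rw [← Category.assoc, ← HomologicalComplex.comp_f, biprod.lift_snd]
    simp [cn]
  let S : ShortComplex (DRing.Cx A) := ShortComplex.mk i (cokernel.π i) (cokernel.condition i)
  have hSe : S.Exact := ShortComplex.exact_of_g_is_cokernel S (cokernelIsCokernel i)
  have hσ : ∀ n, (S.map (eval (ModuleCat.{u} A) (ComplexShape.up ℤ) n)).Splitting := fun n =>
    ShortComplex.Splitting.ofExactOfRetraction _ (hSe.map (eval (ModuleCat.{u} A) (ComplexShape.up ℤ) n)) (r n) (hr n)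
      (inferInstanceAs (Epi ((eval (ModuleCat.{u} A) (ComplexShape.up ℤ) n).map (cokernel.π i))))
  have hS := shortExact_of_splitting S hσ
  have hfst : QuasiIso (biprod.fst : Y ⊞ cn ⟶ Y) := by
    let S' : ShortComplex (DRing.Cx A) := ShortComplex.mk (biprod.inl : Y ⟶ Y ⊞ cn) biprod.snd biprod.inl_snd
    have hS' : S'.ShortExact :=
      ShortComplex.Splitting.shortExact
        { r := biprod.fst, s := biprod.inr, f_r := biprod.inl_fst, s_g := biprod.inr_snd, id := biprod.total }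
    have := quasiIso_f_of_acyclic hS' (acyclic_mappingCone_id X)
    have h1 : QuasiIso ((biprod.inl : Y ⟶ Y ⊞ cn) ≫ biprod.fst) := by rw [biprod.inl_fst]; infer_instance
    exact quasiIso_of_comp_left (biprod.inl : Y ⟶ Y ⊞ cn) biprod.fst
  have hi : ∀ j, j ≤ N → IsIso (homologyMap i j) := fun j hj => by
    have h1 := hg j hj
    rw [show g = i ≫ biprod.fst from (biprod.lift_fst _ _).symm, homologyMap_comp] at h1
    exact IsIso.of_isIso_comp_right _ (homologyMap (biprod.fst : Y ⊞ cn ⟶ Y) j)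
  have hC : ∀ l, l < N → IsZero (S.X₃.homology l) := fun l hl => by
    have := hi l (by omega)
    have := hi (l + 1) (by omega)
    refine (hS.homology_exact₃ l (l + 1) rfl).isZero_X₂ ?_ ?_
    · refine (cancel_epi (homologyMap i l)).1 (Eq.trans ?_ comp_zero.symm)
      show homologyMap i l ≫ homologyMap S.g l = 0
      rw [← homologyMap_comp, show i ≫ S.g = 0 from S.zero, homologyMap_zero]
    · exact (cancel_mono (homologyMap i (l + 1))).1 ((hS.δ_comp l (l + 1) rfl).trans zero_comp.symm)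
  have hT : (S.map T).ShortExact := shortExact_tensR (curriedTensor (ModuleCat.{u} A)) S hσ P
  have hz : ∀ l, l < c + N → IsZero ((S.map T).X₃.homology l) := fun l hl =>
    isZero_homology_tensor P S.X₃ c N hP hfl hC l hl
  have : Mono (homologyMap (S.map T).f k) :=
    (hT.homology_exact₁ (k - 1) k (by simp)).mono_g ((hz _ (by omega)).eq_of_src _ _)
  have : Epi (homologyMap (S.map T).f k) := (hT.homology_exact₂ k).epi_f ((hz _ hk).eq_of_tgt _ _)
  have : IsIso (homologyMap (T.map i) k) := isIso_of_mono_of_epi (homologyMap (S.map T).f k)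
  have : QuasiIso (T.map (biprod.fst : Y ⊞ cn ⟶ Y)) := hfl.quasiIso (curriedTensor (ModuleCat.{u} A)) _ hfst
  rw [show g = i ≫ biprod.fst from (biprod.lift_fst _ _).symm, Functor.map_comp, homologyMap_comp]
  infer_instance

lemma isIso_H_map_iff {X Y : DRing.Cx A} (g : X ⟶ Y) (k : ℤ) :
    IsIso ((H A k).map (DerivedCategory.Q.map g)) ↔ IsIso (homologyMap g k) :=
  NatIso.isIso_map_iff (DerivedCategory.homologyFunctorFactors (ModuleCat.{u} A) k) g

variable [DTen.HasLTen A]

/-- A K-flat complex vanishing below `c`, tensored with a map invertible on `H^{≤ N}`. -/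
lemma HB_whiskerLeft_low (P : DRing.Cx A) (c N : ℤ) (hP : ∀ p, p < c → IsZero (P.X p)) (hKF : DRing.IsKFlat A P)
    {X Y : Dual.D A} (w : dm X ⟶ dm Y) (hw : ∀ j, j ≤ N → HB j w) (k : ℤ) (hk : k < c + N) :
    HB k (dm (DerivedCategory.Q.obj P) ◁ w) := by
  obtain ⟨X', ⟨eX⟩⟩ : ∃ T : DRing.Cx A, Nonempty (DerivedCategory.Q.obj T ≅ X) :=
    ⟨_, ⟨DerivedCategory.Q.objObjPreimageIso X⟩⟩
  obtain ⟨Y', ⟨eY⟩⟩ : ∃ T : DRing.Cx A, Nonempty (DerivedCategory.Q.obj T ≅ Y) :=
    ⟨_, ⟨DerivedCategory.Q.objObjPreimageIso Y⟩⟩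
  let w' : DerivedCategory.Q.obj X' ⟶ DerivedCategory.Q.obj Y' := eX.hom ≫ (show X ⟶ Y from w) ≫ eY.inv
  obtain ⟨X'', s, hs, g, hg⟩ := DerivedCategory.right_fac w'
  let ζX : dm (DerivedCategory.Q.obj X'') ≅ dm X :=
    (show DerivedCategory.Q.obj X'' ≅ X from @asIso _ _ _ _ (DerivedCategory.Q.map s) hs ≪≫ eX)
  let ζY : dm (DerivedCategory.Q.obj Y') ≅ dm Y := eY
  let gd : dm (DerivedCategory.Q.obj X'') ⟶ dm (DerivedCategory.Q.obj Y') := DerivedCategory.Q.map g
  have hgd : gd = ζX.hom ≫ w ≫ ζY.inv := by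
    refine (show DerivedCategory.Q.map g = (DerivedCategory.Q.map s ≫ eX.hom) ≫ (show X ⟶ Y from w) ≫ eY.inv from ?_)
    have h : DerivedCategory.Q.map g = DerivedCategory.Q.map s ≫ w' := by
      rw [hg, IsIso.hom_inv_id_assoc]
    rw [h, Category.assoc]
  have hgH : ∀ j, j ≤ N → IsIso (homologyMap g j) := fun j hj => by
    refine (isIso_H_map_iff g j).1 ((HB_iff j gd).1 ?_)
    rw [hgd]
    exact HB_iso_comp j ζX _ (HB_comp_iso j w ζY.symm (hw j hj))
  have hPg : HB k (show dm (DerivedCategory.Q.obj (P ⊗ X'')) ⟶ dm (DerivedCategory.Q.obj (P ⊗ Y')) from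
      DerivedCategory.Q.map (P ◁ g)) :=
    (HB_iff k _).2 ((isIso_H_map_iff (P ◁ g) k).2
      (isIso_homologyMap_tensor P c N hP (flatL_of_flatR A P hKF) g hgH k hk))
  let E (T : DRing.Cx A) : dm (DerivedCategory.Q.obj P) ⊗ dm (DerivedCategory.Q.obj T) ≅
      dm (DerivedCategory.Q.obj (P ⊗ T)) :=
    (θi (DerivedCategory.Q.obj P) (DerivedCategory.Q.obj T)).symm ≪≫
      @asIso (Dual.D A) _ _ _ ((DTen.ε A).app (P, T)) (isIso_ε P T (Or.inl hKF))
  have n1 : ltm (𝟙 (dm (DerivedCategory.Q.obj P))) gd ≫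
      (show dm ((DTen.LTen₂ A).obj (DerivedCategory.Q.obj P, DerivedCategory.Q.obj Y')) ⟶ dm (DerivedCategory.Q.obj (P ⊗ Y'))
        from (DTen.ε A).app (P, Y')) =
      (show dm ((DTen.LTen₂ A).obj (DerivedCategory.Q.obj P, DerivedCategory.Q.obj X'')) ⟶
          dm (DerivedCategory.Q.obj (P ⊗ X'')) from (DTen.ε A).app (P, X'')) ≫
        (show dm (DerivedCategory.Q.obj (P ⊗ X'')) ⟶ dm (DerivedCategory.Q.obj (P ⊗ Y')) from
          DerivedCategory.Q.map (P ◁ g)) := by
    have h := (DTen.ε A).naturality (X := (P, X'')) (Y := (P, Y')) (Prod.mkHom (𝟙 P) g)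
    have e1 : (DTen.QQ A).map (Prod.mkHom (𝟙 P) g) =
        Prod.mkHom (𝟙 (DerivedCategory.Q.obj P)) (DerivedCategory.Q.map g) :=
      Prod.ext (DerivedCategory.Q.map_id P) rfl
    have e2 : (DTen.tensor₂ A).map (X := (P, X'')) (Y := (P, Y')) (Prod.mkHom (𝟙 P) g) =
        DerivedCategory.Q.map (P ◁ g) := by
      refine congrArg (fun t => DerivedCategory.Q.map t) ?_
      simp
    rw [Functor.comp_map, e1, e2] at h
    exact h
  have n2 : dm (DerivedCategory.Q.obj P) ◁ gd ≫ (E Y').hom = (E X'').hom ≫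
      (show dm (DerivedCategory.Q.obj (P ⊗ X'')) ⟶ dm (DerivedCategory.Q.obj (P ⊗ Y')) from
        DerivedCategory.Q.map (P ◁ g)) := by
    have hn := θi_natural (𝟙 (dm (DerivedCategory.Q.obj P))) gd
    rw [id_tensorHom, ← Iso.eq_comp_inv, Category.assoc] at hn
    simp only [E, Iso.trans_hom, Iso.symm_hom, Category.assoc]
    refine Eq.trans ?_ (congrArg (fun t => (θi _ _).inv ≫ t) n1)
    rw [← Category.assoc, ← Category.assoc, hn, Iso.inv_hom_id_assoc]
    rfl
  have hh : dm (DerivedCategory.Q.obj P) ◁ w = (whiskerLeftIso (dm (DerivedCategory.Q.obj P)) ζX.symm).hom ≫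
      ((E X'').hom ≫ (show dm (DerivedCategory.Q.obj (P ⊗ X'')) ⟶ dm (DerivedCategory.Q.obj (P ⊗ Y')) from
        DerivedCategory.Q.map (P ◁ g))) ≫ (E Y').symm.hom ≫ (whiskerLeftIso (dm (DerivedCategory.Q.obj P)) ζY).hom := by
    rw [← n2]
    simp [hgd, ← MonoidalCategory.whiskerLeft_comp]
  rw [hh]
  refine HB_iso_comp k _ _ ?_
  rw [← Category.assoc]
  exact HB_comp_iso k _ _ (HB_comp_iso k _ _ (HB_iso_comp k _ _ hPg))

/-- Tensoring with a K-flat complex vanishing below `c` raises lower bounds by `c`. -/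
lemma isGE_tensor (P : DRing.Cx A) (c n : ℤ) (hP : ∀ p, p < c → IsZero (P.X p)) (hKF : DRing.IsKFlat A P)
    (X : Dual.D A) (hX : DerivedCategory.IsGE X n) :
    DerivedCategory.IsGE (C := ModuleCat.{u} A) (dm (DerivedCategory.Q.obj P) ⊗ dm X : DM A) (c + n) := by
  obtain ⟨X', hX', ⟨eX⟩⟩ := X.exists_iso_Q_obj_of_isGE n
  let E : dm (DerivedCategory.Q.obj P) ⊗ dm X ≅ dm (DerivedCategory.Q.obj (P ⊗ X')) :=
    whiskerLeftIso (dm (DerivedCategory.Q.obj P)) (show dm X ≅ dm (DerivedCategory.Q.obj X') from eX) ≪≫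
      (θi (DerivedCategory.Q.obj P) (DerivedCategory.Q.obj X')).symm ≪≫
        @asIso (Dual.D A) _ _ _ ((DTen.ε A).app (P, X')) (isIso_ε P X' (Or.inl hKF))
  have : CochainComplex.IsStrictlyGE (P ⊗ X') (c + n) := (CochainComplex.isStrictlyGE_iff _ _).2 fun i hi =>
    isZero_X_tensor P X' c n hP (fun q hq => CochainComplex.isZero_of_isStrictlyGE _ n q hq) i hi
  exact DerivedCategory.TStructure.t.isGE_of_iso
    (show DerivedCategory.Q.obj (P ⊗ X') ≅ (dm (DerivedCategory.Q.obj P) ⊗ dm X : DM A) from E.symm) (c + n)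

end Groth.Agent.KFlat.Amp
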