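import Groth.Agent.KFlat.Amp.PseudoEval
import Groth.Agent.KFlat.Amp.TensorGE
import Groth.Agent.KFlat.Mon.BCAlg
import Groth.Prelude.Def_DRing2

/-!
`a ⊗ RHom(K, M) ⟶ RHom(K, a ⊗ M)` for `a` of finite tor dimension, `K` pseudo-coherent and `M` bounded below.
-/

set_option autoImplicit false

universe u

open CategoryTheory CategoryTheory.Limits MonoidalCategory
attribute [local instance] HasDerivedCategory.standard

namespace Groth.Agent.KFlat.Amp

open Groth.Agent.KFlat Groth.Agent.KFlat.Mon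

section Nat

universe v' u'

variable {C : Type u'} [Category.{v'} C] [MonoidalCategory C]

lemma evalT_natural {E K : C} {GE GK : C ⥤ C} (adjE : tensorRight E ⊣ GE) (adjK : tensorRight K ⊣ GK)
    (φ : E ⟶ K) (a M : C) :
    a ◁ pre adjE adjK φ M ≫ evalT adjE a M = evalT adjK a M ≫ pre adjE adjK φ (a ⊗ M) := by
  refine (adjE.homEquiv _ _).symm.injective ?_
  simp only [homEquiv_symm_cu, comp_whiskerRight, Category.assoc, evalT_fac, pre_cu]
  rw [associator_naturality_middle_assoc, ← MonoidalCategory.whiskerLeft_comp, pre_cu, ← whisker_exchange_assoc,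
    evalT_fac, associator_naturality_right_assoc, MonoidalCategory.whiskerLeft_comp]

lemma isIso_pre {X Y T : C} {GX GY : C ⥤ C} (aX : tensorRight X ⊣ GX) (aY : tensorRight Y ⊣ GY) (u : X ⟶ Y)
    [IsIso u] : IsIso (pre aX aY u T) :=
  isIso_of_yoneda_map_bijective _ fun Z =>
    bijective_pre aX aY u T Z ((asIso (Z ◁ u)).homFromEquiv).symm.bijective

lemma isIso_evalT_of_iso {E K : C} {GE GK : C ⥤ C} (adjE : tensorRight E ⊣ GE) (adjK : tensorRight K ⊣ GK)
    (φ : E ⟶ K) [IsIso φ] (a M : C) (h : IsIso (evalT adjE a M)) : IsIso (evalT adjK a M) := by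
  have := isIso_pre (T := M) adjE adjK φ
  have := isIso_pre (T := a ⊗ M) adjE adjK φ
  have : IsIso (evalT adjK a M ≫ pre adjE adjK φ (a ⊗ M)) := by
    rw [← evalT_natural]
    infer_instance
  exact IsIso.of_isIso_comp_right _ (pre adjE adjK φ (a ⊗ M))

lemma isIso_evalT_of_iso_left {K : C} {GK : C ⥤ C} (adjK : tensorRight K ⊣ GK) {a a' : C} (e : a ≅ a') (M : C)
    (h : IsIso (evalT adjK a M)) : IsIso (evalT adjK a' M) := by
  have h1 : e.hom ▷ GK.obj M ≫ evalT adjK a' M = evalT adjK a M ≫ GK.map (e.hom ▷ M) := by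
    refine (adjK.homEquiv _ _).symm.injective ?_
    rw [adjK.homEquiv_naturality_left_symm, adjK.homEquiv_naturality_right_symm, evalT, evalT,
      Equiv.symm_apply_apply, Equiv.symm_apply_apply]
    dsimp
    rw [associator_naturality_left_assoc, ← whisker_exchange, Category.assoc]
  have : IsIso (e.hom ▷ GK.obj M ≫ evalT adjK a' M) := by
    rw [h1]
    infer_instance
  exact IsIso.of_isIso_comp_left (e.hom ▷ GK.obj M) _

end Nat

variable {A : Type u} [CommRing A] [DTen.HasLTen A] [DTen.HasRHom A]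

omit [DTen.HasLTen A] [DTen.HasRHom A] in
lemma HB_of_comp_right (k : ℤ) {X Y Z : DM A} (u : X ⟶ Y) (v : Y ⟶ Z) (hv : HB k v) (huv : HB k (u ≫ v)) :
    HB k u := by
  rw [HB, show (fun f : S A k ⟶ X => f ≫ u ≫ v) = (fun g => g ≫ v) ∘ fun f => f ≫ u from
    funext fun f => (Category.assoc _ _ _).symm] at huv
  exact (Function.Bijective.of_comp_iff' hv _).1 huv

theorem isIso_evalT_pseudo (P : DRing.Cx A) (c : ℤ) (hP : ∀ p, p < c → IsZero (P.X p)) (hKF : DRing.IsKFlat A P)
    (K M : Dual.D A) (hK : DRing.IsPseudoCoherent' A K) (n : ℤ) (hM : DerivedCategory.IsGE M n) :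
    IsIso (evalT (adjM K) (dm (DerivedCategory.Q.obj P)) (dm M)) := by
  obtain ⟨F, bF, hb, hF, ⟨f⟩⟩ := hK
  let f' : dm (DerivedCategory.Q.obj F) ≅ dm K := f
  refine isIso_evalT_of_iso (adjM (DerivedCategory.Q.obj F)) (adjM K) f'.hom _ _ ?_
  set KF' := DerivedCategory.Q.obj F
  suffices hk : ∀ k : ℤ, HB k (evalT (adjM KF') (dm (DerivedCategory.Q.obj P)) (dm M)) from
    (isIso_iff_forall _ _ _).2 hk
  intro k
  let m : ℤ := c + n - k - 3
  let E : Dual.D A := DerivedCategory.Q.obj (Stupid.trunc F m)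
  let φ : dm E ⟶ dm KF' := DerivedCategory.Q.map (Stupid.incl F m)
  have hφ : ∀ j : ℤ, m < j → HB j φ := fun j hj =>
    (HB_iff j φ).2 (isIso_H_Q _ m (fun t ht => Stupid.isIso_ι F ht) j hj)
  have hpre : ∀ (T : DM A) (d : ℤ), DerivedCategory.IsGE (dd T) d → ∀ j : ℤ, m + j < d - 1 →
      HB j (pre (adjM E) (adjM KF') φ T) := fun T d hT j hj => by
    refine bijective_pre (adjM E) (adjM KF') φ T (S A j) ?_
    exact bijective_precomp_of_isGE d hT (show dd (S A j ⊗ dm E) ⟶ dd (S A j ⊗ dm KF') from S A j ◁ φ) fun l hl =>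
      (HB_iff l (S A j ◁ φ)).1 (HB_whiskerLeft j (l - j) l (by omega) φ (hφ (l - j) (by omega)))
  have h1 : HB k (dm (DerivedCategory.Q.obj P) ◁ pre (adjM E) (adjM KF') φ (dm M)) :=
    HB_whiskerLeft_low P c (n - 2 - m) hP hKF (X := (GM KF').obj (dm M)) (Y := (GM E).obj (dm M)) _
      (fun j hj => hpre (dm M) n hM j (by omega)) k (by omega)
  have h2 : HB k (pre (adjM E) (adjM KF') φ (dm (DerivedCategory.Q.obj P) ⊗ dm M)) :=
    hpre _ (c + n) (isGE_tensor P c n hP hKF M hM) k (by omega)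
  obtain ⟨N, ⟨pN⟩⟩ := exists_pairing_of_isPerfect (perfect_trunc bF hb hF m)
  have := isIso_evalT_right (adjM E) (dm (DerivedCategory.Q.obj P)) (dm M) N
  refine HB_of_comp_right k _ _ h2 ?_
  rw [← evalT_natural]
  exact HB_comp k _ _ h1 (HB_of_isIso k _)

end Groth.Agent.KFlat.Amp
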