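import Groth.Agent.KFlat.Amp.BCEval
import Groth.Agent.DRingPC.TorDim

/-!
`bcRHom` for `R'` of finite tor dimension, `K` pseudo-coherent and `M` bounded below.
-/

set_option autoImplicit false

universe u

open CategoryTheory CategoryTheory.Limits MonoidalCategory
attribute [local instance] HasDerivedCategory.standard

namespace Groth.Agent.KFlat.Amp

open Groth.Agent.KFlat Groth.Agent.KFlat.Mon

/-- `R'` as an `R`-module. -/
noncomputable def resUnitLin (R R' : Type u) [CommRing R] [CommRing R'] [Algebra R R'] :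
    ((DTen.resM (algebraMap R R')).obj (𝟙_ (ModuleCat.{u} R'))) ≅ ModuleCat.of R R' :=
  LinearEquiv.toModuleIso (X₁ := ((DTen.resM (algebraMap R R')).obj (𝟙_ (ModuleCat.{u} R')))) (X₂ := R')
    (show ((DTen.resM (algebraMap R R')).obj (𝟙_ (ModuleCat.{u} R'))) ≃ₗ[R] R' from
      { toFun := fun x => x
        invFun := fun x => x
        map_add' := fun _ _ => rfl
        map_smul' := fun r x => (Algebra.smul_def r (show R' from x)).symm
        left_inv := fun _ => rfl
        right_inv := fun _ => rfl })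

/-- The unit of `D(R')`, restricted, is `R'[0]`. -/
noncomputable def resUnitIso (R R' : Type u) [CommRing R] [CommRing R'] [Algebra R R'] :
    (DRing.restrictD (algebraMap R R')).obj (DTen.unit R') ≅ Dual.inD R R' :=
  (DTen.resFactors (algebraMap R R')).app _ ≪≫ DerivedCategory.Q.mapIso
    ((HomologicalComplex.singleMapHomologicalComplex (DTen.resM (algebraMap R R')) (ComplexShape.up ℤ) 0).app _ ≪≫
      (HomologicalComplex.single (ModuleCat.{u} R) (ComplexShape.up ℤ) 0).mapIso (resUnitLin R R'))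

theorem isIso_bcRHom_pseudo (R R' : Type u) [CommRing R] [CommRing R'] [Algebra R R']
    [DTen.HasLTen R] [DTen.HasLTen R'] [DTen.HasRHom R] [DTen.HasRHom R'] [DTen.HasLBase (algebraMap R R')]
    [DTen.HasResTen (algebraMap R R')] [DTen.ResLegIso (algebraMap R R')] (K M : Dual.D R)
    [IsIso (DTen.rhomBC (algebraMap R R') K ((DTen.LBase (algebraMap R R')).obj M))]
    (hR' : DRing.HasFiniteTorDim R R') (hK : DRing.IsPseudoCoherent' R K) (n : ℤ) (hM : DerivedCategory.IsGE M n) :
    IsIso (DTen.bcRHom (algebraMap R R') K M) := by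
  obtain ⟨d, hd⟩ := hR'
  obtain ⟨P, hP, hfl, ⟨e⟩⟩ := (DRingPC.hasTorDimLE_iff_amplitude d R').1 hd
  refine isIso_bcRHom_of_isIso_evalT (algebraMap R R') K M ?_
  refine isIso_evalT_of_iso_left (adjM K) (a := dm (DerivedCategory.Q.obj P))
    (show dm (DerivedCategory.Q.obj P) ≅ (Res (algebraMap R R')).obj (𝟙_ (DM R')) from
      e ≪≫ (resUnitIso R R').symm) _ ?_
  exact isIso_evalT_pseudo P (-(d : ℤ)) (fun p hp => hP p (Or.inl hp))
    (isKFlat_of_boundedAbove 0 (fun i hi => hP i (Or.inr hi)) hfl) K M hK n hM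

end Groth.Agent.KFlat.Amp
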