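import Groth.Agent.KFlat.Amp.Whisker
import Groth.Agent.KFlat.Mon.EvalHom

/-!
`RHom(L, M) ⊗ K ⟶ RHom(RHom(K, L), M)` for pseudo-coherent `K`, `L` bounded below and `M` of finite injective dimension.
-/

set_option autoImplicit false

universe u

open CategoryTheory CategoryTheory.Limits MonoidalCategory
attribute [local instance] HasDerivedCategory.standard

namespace Groth.Agent.KFlat.Amp

open Groth.Agent.KFlat Groth.Agent.KFlat.Mon

section Pre

universe v' u'

variable {C : Type u'} [Category.{v'} C] [MonoidalCategory C]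

/-- The map between internal homs induced by `φ`. -/
def pre {E K : C} {GE GK : C ⥤ C} (adjE : tensorRight E ⊣ GE) (adjK : tensorRight K ⊣ GK) (φ : E ⟶ K) (X : C) :
    GK.obj X ⟶ GE.obj X :=
  adjE.homEquiv _ _ (GK.obj X ◁ φ ≫ cu adjK X)

lemma pre_cu {E K : C} {GE GK : C ⥤ C} (adjE : tensorRight E ⊣ GE) (adjK : tensorRight K ⊣ GK) (φ : E ⟶ K) (X : C) :
    pre adjE adjK φ X ▷ E ≫ cu adjE X = GK.obj X ◁ φ ≫ cu adjK X := by
  rw [← homEquiv_symm_cu]
  exact Equiv.symm_apply_apply _ _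

lemma bijective_pre {E K : C} {GE GK : C ⥤ C} (adjE : tensorRight E ⊣ GE) (adjK : tensorRight K ⊣ GK) (φ : E ⟶ K) (X T : C)
    (h : Function.Bijective fun g : T ⊗ K ⟶ X => T ◁ φ ≫ g) :
    Function.Bijective fun f : T ⟶ GK.obj X => f ≫ pre adjE adjK φ X := by
  have : (fun f : T ⟶ GK.obj X => f ≫ pre adjE adjK φ X) =
      adjE.homEquiv T X ∘ (fun g : T ⊗ K ⟶ X => T ◁ φ ≫ g) ∘ (adjK.homEquiv T X).symm := by
    funext f
    refine (adjE.homEquiv T X).symm.injective ?_
    simp only [Function.comp_apply, Equiv.symm_apply_apply, homEquiv_symm_cu, comp_whiskerRight, Category.assoc, pre_cu]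
    rw [whisker_exchange_assoc]
  rw [this]
  exact (adjE.homEquiv T X).bijective.comp (h.comp (adjK.homEquiv T X).symm.bijective)

variable [BraidedCategory C]

lemma evalH_natural {L E K : C} {G₀ GE GK GPE GPK : C ⥤ C} (adjL : tensorRight L ⊣ G₀) (adjE : tensorRight E ⊣ GE)
    (adjK : tensorRight K ⊣ GK) (adjPE : tensorRight (GE.obj L) ⊣ GPE) (adjPK : tensorRight (GK.obj L) ⊣ GPK)
    (φ : E ⟶ K) (M : C) :
    G₀.obj M ◁ φ ≫ evalH adjL adjPK (cu adjK L) M =
      evalH adjL adjPE (cu adjE L) M ≫ pre adjPK adjPE (pre adjE adjK φ L) M := by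
  refine (adjPK.homEquiv _ _).symm.injective ?_
  rw [Adjunction.homEquiv_naturality_left_symm, evalH, Equiv.symm_apply_apply]
  rw [homEquiv_symm_cu, comp_whiskerRight, Category.assoc, pre_cu, ← whisker_exchange_assoc]
  have hE : evalH adjL adjPE (cu adjE L) M ▷ GE.obj L ≫ cu adjPE M =
      (α_ _ _ _).hom ≫ G₀.obj M ◁ ((β_ E (GE.obj L)).hom ≫ cu adjE L) ≫ cu adjL M := by
    rw [← homEquiv_symm_cu]
    exact Equiv.symm_apply_apply _ _
  rw [hE]
  dsimp
  rw [associator_naturality_middle_assoc, associator_naturality_right_assoc]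
  simp only [← MonoidalCategory.whiskerLeft_comp_assoc]
  rw [BraidedCategory.braiding_naturality_left_assoc, BraidedCategory.braiding_naturality_right_assoc, pre_cu]

end Pre

/-- An object of the monoidal category, in `D(A)`. -/
noncomputable abbrev dd {A : Type u} [CommRing A] (X : DM A) : Dual.D A := X

variable {A : Type u} [CommRing A] [DTen.HasLTen A] [DTen.HasLTen₃ A] [DTen.IsSymMonoidal A] [DTen.HasRHom A]

omit [DTen.HasLTen A] [DTen.HasLTen₃ A] [DTen.IsSymMonoidal A] [DTen.HasRHom A] in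
lemma isGE_S_tensor (i n : ℤ) (X : Dual.D A) (hX : DerivedCategory.IsGE X n) :
    DerivedCategory.IsGE (dd (S A i ⊗ dm X)) (i + n) := by
  refine (DerivedCategory.isGE_iff _ _).2 fun k hk => ?_
  refine (subsingleton_iff k _).1 (subsingleton_tensor i (k - i) k (by omega) (dm X) ?_)
  exact (subsingleton_iff (k - i) X).2 ((DerivedCategory.isGE_iff X n).1 hX _ (by omega))

omit [DTen.HasLTen₃ A] [DTen.IsSymMonoidal A] in
lemma isLE_hom (L M : Dual.D A) (n : ℤ) (hL : DerivedCategory.IsGE L n) (I : DRing.Cx A) (a b : ℤ)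
    (hI : DRing.VanishesOutside I a b) (hI' : DRing.TermwiseInjective I) (e : DerivedCategory.Q.obj I ≅ M) :
    DerivedCategory.IsLE (dd ((GM L).obj (dm M))) (b - n) := by
  refine (DerivedCategory.isLE_iff _ _).2 fun k hk => (subsingleton_iff k _).1 ?_
  have h0 : ∀ g : (dd (S A k ⊗ dm L)) ⟶ M, g = 0 := fun g => by
    have hz := zero_of_isGE_to_inj I a b (k + n) hI hI' (by omega) (isGE_S_tensor k n L hL) (g ≫ e.inv)
    rw [← cancel_mono e.inv, hz, zero_comp]
  have : Subsingleton (S A k ⊗ dm L ⟶ dm M) := ⟨fun f g => (h0 f).trans (h0 g).symm⟩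
  exact @Equiv.subsingleton _ _ ((adjM L).homEquiv (S A k) (dm M)).symm this

omit [DTen.HasLTen₃ A] [DTen.IsSymMonoidal A] in
theorem isIso_evalH_pseudo (F : DRing.Cx A) (bF : ℤ) (hb : DRing.VanishesAbove F bF) (hF : DRing.TermwiseFiniteFree F)
    (L M : Dual.D A) (n : ℤ) (hL : DerivedCategory.IsGE L n) (I : DRing.Cx A) (a b : ℤ)
    (hI : DRing.VanishesOutside I a b) (hI' : DRing.TermwiseInjective I) (e : DerivedCategory.Q.obj I ≅ M)
    (hperf : ∀ (E : Dual.D A), DRing.IsPerfect A E →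
      IsIso (evalH (adjM L) (adjM ((DTen.RHomR A E).obj L)) (cu (adjM E) (dm L)) (dm M))) :
    IsIso (evalH (adjM L) (adjM ((DTen.RHomR A (DerivedCategory.Q.obj F)).obj L))
      (cu (adjM (DerivedCategory.Q.obj F)) (dm L)) (dm M)) := by
  set K := DerivedCategory.Q.obj F
  suffices hk : ∀ k : ℤ, HB k (evalH (adjM L) (adjM ((DTen.RHomR A K).obj L)) (cu (adjM K) (dm L)) (dm M)) from
    (isIso_iff_forall _ _ _).2 hk
  intro k
  let m : ℤ := k - b + n - 4
  let E : Dual.D A := DerivedCategory.Q.obj (Stupid.trunc F m)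
  let φ : dm E ⟶ dm K := DerivedCategory.Q.map (Stupid.incl F m)
  let PK : Dual.D A := (DTen.RHomR A K).obj L
  let PE : Dual.D A := (DTen.RHomR A E).obj L
  let w : dm PK ⟶ dm PE := pre (adjM E) (adjM K) φ (dm L)
  have hw : ∀ j : ℤ, j ≤ n - 2 - m → HB j w := fun j hj => by
    refine bijective_pre (adjM E) (adjM K) φ (dm L) (S A j) ?_
    refine bijective_precomp_of_isGE n hL (show (dd (S A j ⊗ dm E)) ⟶ (dd (S A j ⊗ dm K))
      from S A j ◁ φ) fun l hl => ?_
    refine (HB_iff l (S A j ◁ φ)).1 (HB_whiskerLeft j (l - j) l (by omega) φ ?_)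
    exact (HB_iff (l - j) φ).2 (isIso_H_Q _ m (fun t ht => Stupid.isIso_ι F ht) (l - j) (by omega))
  have hq : HB k (pre (adjM PK) (adjM PE) w (dm M)) := by
    refine bijective_pre (adjM PK) (adjM PE) w (dm M) (S A k) ?_
    have h := bijective_precomp_of_inj I a b hI hI'
      (show (dd (S A k ⊗ dm PK)) ⟶ (dd (S A k ⊗ dm PE)) from S A k ◁ w) fun l hl =>
        (HB_iff l (S A k ◁ w)).1 (HB_whiskerLeft k (l - k) l (by omega) w (hw (l - k) (by omega)))
    let t : dm (DerivedCategory.Q.obj I) ≅ dm M := e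
    have : (fun g : S A k ⊗ dm PE ⟶ dm M => S A k ◁ w ≫ g) =
        (fun g => g ≫ t.hom) ∘ (fun g : S A k ⊗ dm PE ⟶ dm (DerivedCategory.Q.obj I) => S A k ◁ w ≫ g) ∘
          (fun g => g ≫ t.inv) := by
      funext g
      simp
    rw [this]
    exact t.homToEquiv.bijective.comp (h.comp t.symm.homToEquiv.bijective)
  have hnat : (GM L).obj (dm M) ◁ φ ≫ evalH (adjM L) (adjM PK) (cu (adjM K) (dm L)) (dm M) =
      evalH (adjM L) (adjM PE) (cu (adjM E) (dm L)) (dm M) ≫ pre (adjM PK) (adjM PE) w (dm M) :=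
    evalH_natural (adjM L) (adjM E) (adjM K) (adjM PE) (adjM PK) φ (dm M)
  have := hperf E (perfect_trunc bF hb hF m)
  refine HB_of_comp k ((GM L).obj (dm M) ◁ φ) _ ?_ ?_
  · exact HB_whiskerLeft_incl bF hb hF m (b - n) ((GM L).obj (dm M)) (isLE_hom L M n hL I a b hI hI' e) k (by omega)
  · rw [hnat]
    exact HB_comp k _ _ (HB_of_isIso k _) hq

omit [DTen.HasLTen₃ A] [DTen.IsSymMonoidal A] in
theorem isIso_evalH_of_isPerfect {K : Dual.D A} (L M : Dual.D A) (hK : DRing.IsPerfect A K) :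
    IsIso (evalH (adjM L) (adjM ((DTen.RHomR A K).obj L)) (cu (adjM K) (dm L)) (dm M)) := by
  obtain ⟨N, ⟨p⟩⟩ := exists_pairing_of_isPerfect hK
  let e := (tensorRightAdjunction (dm K) N).rightAdjointUniq (adjM K)
  refine isIso_evalH (adjM L) (adjM ((DTen.RHomR A K).obj L)) N (e.app (dm L)) _ ?_ (dm M)
  refine ((tensorRightAdjunction (dm K) N).rightAdjointUniq_hom_app_counit (adjM K) (dm L)).trans ?_
  simp [tensorRightAdjunction, tensorRightHomEquiv]

theorem isIso_evalHom_pseudo (K L M : Dual.D A) (hK : DRing.IsPseudoCoherent' A K) (n : ℤ)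
    (hL : DerivedCategory.IsGE L n) (hM : DRing.HasFiniteInjDim A M) : IsIso (DTen.evalHom K L M) := by
  obtain ⟨a, b, I, hI, hI', ⟨e⟩⟩ := hM
  obtain ⟨F, bF, hb, hF, ⟨f⟩⟩ := hK
  let P : Dual.D A → Prop := fun X =>
    IsIso (evalH (adjM L) (adjM ((DTen.RHomR A X).obj L)) (cu (adjM X) (dm L)) (dm M))
  have hP : P (DerivedCategory.Q.obj F) :=
    isIso_evalH_pseudo F bF hb hF L M n hL I a b hI hI' e fun E hE => isIso_evalH_of_isPerfect L M hE
  have hPK : P K := by
    let φ : dm K ⟶ dm (DerivedCategory.Q.obj F) := f.inv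
    have : IsIso φ := inferInstanceAs (IsIso (C := Dual.D A) f.inv)
    have hiso : ∀ {X Y T : DM A} {GX GY : DM A ⥤ DM A} (aX : tensorRight X ⊣ GX) (aY : tensorRight Y ⊣ GY)
        (u : X ⟶ Y) [IsIso u], IsIso (pre aX aY u T) := fun {X Y T} _ _ aX aY u _ =>
      isIso_of_yoneda_map_bijective _ fun Z =>
        bijective_pre aX aY u T Z ((asIso (Z ◁ u)).homFromEquiv).symm.bijective
    have h := evalH_natural (adjM L) (adjM K) (adjM (DerivedCategory.Q.obj F))
      (adjM ((DTen.RHomR A K).obj L)) (adjM ((DTen.RHomR A (DerivedCategory.Q.obj F)).obj L)) φ (dm M)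
    have w₁ : IsIso (pre (adjM K) (adjM (DerivedCategory.Q.obj F)) φ (dm L)) := hiso _ _ φ
    have w₂ : IsIso (pre (adjM ((DTen.RHomR A (DerivedCategory.Q.obj F)).obj L)) (adjM ((DTen.RHomR A K).obj L))
        (pre (adjM K) (adjM (DerivedCategory.Q.obj F)) φ (dm L)) (dm M)) :=
      @hiso _ _ _ _ _ _ _ (pre (adjM K) (adjM (DerivedCategory.Q.obj F)) φ (dm L)) w₁
    have h2 : IsIso ((GM L).obj (dm M) ◁ φ ≫ evalH (adjM L)
        (adjM ((DTen.RHomR A (DerivedCategory.Q.obj F)).obj L)) (cu (adjM (DerivedCategory.Q.obj F)) (dm L)) (dm M)) :=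
      @IsIso.comp_isIso _ _ _ _ _ _ _ inferInstance hP
    exact @IsIso.of_isIso_comp_right _ _ _ _ _ _ _ w₂ ((congrArg (fun t => IsIso t) h).mp h2)
  have hcu : cu (adjM K) (dm L) = evc K L := cu_adjM K L
  let r : dm ((DTen.LTen₂ A).obj ((DTen.RHomR A L).obj M, K)) ⟶ (GM ((DTen.RHomR A K).obj L)).obj (dm M) :=
    rhomd _ ((DTen.RHomR A K).obj L) M ((assocd ((DTen.RHomR A L).obj M) K ((DTen.RHomR A K).obj L)).hom ≫
      ltm (𝟙 (dm ((DTen.RHomR A L).obj M))) (symd ((DTen.RHomR A K).obj L) K ≫ evd K L) ≫ evd L M)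
  have hr : IsIso r := by
    rw [show r = _ from evalHom_eq K L M, ← hcu]
    have : IsIso (evalH (adjM L) (adjM ((DTen.RHomR A K).obj L)) (cu (adjM K) (dm L)) (dm M)) := hPK
    infer_instance
  exact hr

end Groth.Agent.KFlat.Amp
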