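import Groth.Agent.KFlat.Amp.Test
import Groth.Agent.KFlat.Mon.Compare

/-!
`A[-i] ⊗ A[-j] ≅ A[-(i+j)]`, and tensoring with `A[-i]` shifts cohomological degrees by `i`.
-/

set_option autoImplicit false

universe u

open CategoryTheory CategoryTheory.Limits MonoidalCategory HomologicalComplex
attribute [local instance] HasDerivedCategory.standard

namespace Groth.Agent.KFlat.Amp

open Groth.Agent.KFlat.Mon

variable {A : Type u} [CommRing A]

lemma isKFlat_sC (k : ℤ) : DRing.IsKFlat A (sC A k) :=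
  flatR_single (curriedTensor (ModuleCat.{u} A)) (ModuleCat.of A A) k

/-- `A[-(i+j)] ⟶ A[-i] ⊗ A[-j]`. -/
noncomputable def sμ (i j : ℤ) : sC A (i + j) ⟶ sC A i ⊗ sC A j :=
  mkHomFromSingle ((λ_ (𝟙_ (ModuleCat.{u} A))).inv ≫
    ((singleObjXSelf (ComplexShape.up ℤ) i (ModuleCat.of A A)).inv ⊗ₘ
      (singleObjXSelf (ComplexShape.up ℤ) j (ModuleCat.of A A)).inv) ≫ ιTensorObj (sC A i) (sC A j) i j (i + j) rfl)
    fun k (hk : i + j + 1 = k) => by
      have hz : ιTensorObj (sC A i) (sC A j) i j (i + j) rfl ≫ (sC A i ⊗ sC A j).d (i + j) k = 0 := by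
        subst hk
        change ιMapBifunctor (sC A i) (sC A j) (curriedTensor (ModuleCat.{u} A)) (ComplexShape.up ℤ) i j (i + j) _ ≫
          (mapBifunctor (sC A i) (sC A j) (curriedTensor (ModuleCat.{u} A)) (ComplexShape.up ℤ)).d (i + j) (i + j + 1) = 0
        rw [mapBifunctor.d_eq, Preadditive.comp_add, mapBifunctor.ι_D₁, mapBifunctor.ι_D₂,
          mapBifunctor.d₁_eq (sC A i) _ _ _ (show (ComplexShape.up ℤ).Rel i (i + 1) from rfl) j (i + j + 1)
            (by dsimp; omega),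
          mapBifunctor.d₂_eq (sC A i) _ _ (ComplexShape.up ℤ) i (show (ComplexShape.up ℤ).Rel j (j + 1) from rfl)
            (i + j + 1) (by dsimp; omega)]
        simp
      rw [Category.assoc, Category.assoc, hz, comp_zero, comp_zero]

lemma isIso_sμ (i j : ℤ) : IsIso (sμ (A := A) i j) := by
  have hz : ∀ n, n ≠ i + j → IsZero ((sC A i ⊗ sC A j).X n) := fun n hn => by
    refine (IsZero.iff_id_eq_zero _).2 (mapBifunctor.hom_ext fun p q h => ?_)
    by_cases hp : p = i
    · have hq : q ≠ j := fun hq => hn (by subst hp hq; exact h.symm)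
      exact (Functor.map_isZero _ (isZero_single_obj_X _ _ _ _ hq)).eq_of_src _ _
    · exact (Functor.map_isZero ((curriedTensor (ModuleCat.{u} A)).flip.obj _)
        (isZero_single_obj_X _ _ _ _ hp)).eq_of_src _ _
  have (n : ℤ) : IsIso ((sμ (A := A) i j).f n) := by
    by_cases hn : n = i + j
    · subst hn
      refine ⟨mapBifunctorDesc fun p q h => if hp : p = i ∧ q = j then
        ((singleObjXIsoOfEq (ComplexShape.up ℤ) i (ModuleCat.of A A) p hp.1).hom ⊗ₘ
          (singleObjXIsoOfEq (ComplexShape.up ℤ) j (ModuleCat.of A A) q hp.2).hom) ≫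
            (λ_ (𝟙_ (ModuleCat.{u} A))).hom ≫ (singleObjXSelf (ComplexShape.up ℤ) (i + j) (ModuleCat.of A A)).inv
        else 0, ?_, ?_⟩
      · rw [sμ, mkHomFromSingle_f, Category.assoc, Category.assoc, Category.assoc]
        erw [ι_mapBifunctorDesc]
        rw [dif_pos ⟨rfl, rfl⟩, MonoidalCategory.tensorHom_comp_tensorHom_assoc]
        simp [singleObjXSelf]
        rw [unitors_inv_equal, unitors_equal, Iso.inv_hom_id_assoc]
        erw [Iso.inv_hom_id_assoc]
        simp
      · refine mapBifunctor.hom_ext fun p q h => ?_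
        erw [ι_mapBifunctorDesc_assoc]
        erw [Category.comp_id]
        by_cases hp : p = i ∧ q = j
        · obtain ⟨rfl, rfl⟩ := hp
          rw [dif_pos ⟨rfl, rfl⟩, sμ, mkHomFromSingle_f]
          simp only [Category.assoc, Iso.inv_hom_id_assoc, Iso.hom_inv_id_assoc]
          rw [MonoidalCategory.tensorHom_comp_tensorHom_assoc]
          simp [singleObjXSelf]
        · rw [dif_neg hp, zero_comp]
          by_cases hp' : p = i
          · exact ((Functor.map_isZero _ (isZero_single_obj_X _ _ _ _ (fun hq => hp ⟨hp', hq⟩))).eq_of_src _ _)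
          · exact ((Functor.map_isZero ((curriedTensor (ModuleCat.{u} A)).flip.obj _)
              (isZero_single_obj_X _ _ _ _ hp')).eq_of_src _ _)
    · exact ⟨0, (isZero_single_obj_X _ _ _ _ hn).eq_of_src _ _, (hz n hn).eq_of_src _ _⟩
  exact HomologicalComplex.Hom.isIso_of_components _

/-- `A[-k]` as a K-flat complex. -/
noncomputable abbrev sK (A : Type u) [CommRing A] (k : ℤ) : KF A := ⟨sC A k, isKFlat_sC k⟩

/-- `A[-k]` in the monoidal category. -/
noncomputable abbrev S (A : Type u) [CommRing A] (k : ℤ) : DM A := dm ((L A).obj (sK A k))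

/-- `A[-i] ⊗ A[-j] ≅ A[-(i+j)]`. -/
noncomputable def SS (i j : ℤ) : S A i ⊗ S A j ≅ S A (i + j) :=
  haveI := isIso_sμ (A := A) i j
  μd (sK A i) (sK A j) ≪≫ (L' A).mapIso ((ObjectProperty.isoMk (flatP A) (asIso (sμ (A := A) i j)) :
    sK A (i + j) ≅ sK A i ⊗ sK A j)).symm

/-- `A[0]` is the unit. -/
noncomputable def S0 : S A 0 ≅ 𝟙_ (DM A) :=
  show (L' A).obj (𝟙_ (KF A)) ≅ 𝟙_ (DM A) from (Functor.Monoidal.εIso (L' A)).symm

/-- Tensoring with `A[-i]` is an equivalence. -/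
noncomputable def SEquiv (i : ℤ) : DM A ≌ DM A :=
  CategoryTheory.Equivalence.mk (tensorLeft (S A i)) (tensorLeft (S A (-i)))
    ((leftUnitorNatIso (DM A)).symm ≪≫ (curriedTensor (DM A)).mapIso
        (S0.symm ≪≫ eqToIso (by rw [neg_add_cancel]) ≪≫ (SS (-i) i).symm) ≪≫ tensorLeftTensor _ _)
    ((tensorLeftTensor _ _).symm ≪≫ (curriedTensor (DM A)).mapIso
        ((SS i (-i)) ≪≫ eqToIso (by rw [add_neg_cancel]) ≪≫ S0) ≪≫ leftUnitorNatIso (DM A))

lemma whiskerLeft_bijective (i : ℤ) (X Y : DM A) :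
    Function.Bijective fun f : X ⟶ Y => S A i ◁ f :=
  (Functor.FullyFaithful.ofFullyFaithful (SEquiv i).functor).map_bijective X Y

/-- Composition with a morphism, on maps from `A[-k]`. -/
noncomputable def HB (k : ℤ) {X Y : DM A} (u : X ⟶ Y) : Prop := Function.Bijective fun f : S A k ⟶ X => f ≫ u

lemma HB_iff (k : ℤ) {X Y : Dual.D A} (u : dm X ⟶ dm Y) :
    HB k u ↔ IsIso ((H A k).map (show X ⟶ Y from u)) := (isIso_H_iff k (show X ⟶ Y from u)).symm

/-- Maps from `A[-(i+j)]` to `A[-i] ⊗ X` are maps from `A[-j]` to `X`. -/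
noncomputable def shiftHom (i j : ℤ) (X : DM A) : (S A (i + j) ⟶ S A i ⊗ X) ≃ (S A j ⟶ X) :=
  (Iso.homFromEquiv (Z := S A i ⊗ X) (SS i j).symm).trans (Equiv.ofBijective _ (whiskerLeft_bijective i (S A j) X)).symm

lemma shiftHom_symm (i j : ℤ) (X : DM A) (g : S A j ⟶ X) : (shiftHom i j X).symm g = (SS i j).inv ≫ S A i ◁ g := by
  simp [shiftHom, Iso.homFromEquiv]

/-- Tensoring shifts degrees. -/
lemma HB_whiskerLeft (i j k : ℤ) (hk : i + j = k) {X Y : DM A} (u : X ⟶ Y) (h : HB j u) : HB k (S A i ◁ u) := by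
  subst hk
  have : (fun f : S A (i + j) ⟶ S A i ⊗ X => f ≫ S A i ◁ u) =
      (shiftHom i j Y).symm ∘ (fun g : S A j ⟶ X => g ≫ u) ∘ shiftHom i j X := by
    funext f
    obtain ⟨g, rfl⟩ := (shiftHom i j X).symm.surjective f
    simp only [Function.comp_apply, Equiv.apply_symm_apply]
    rw [shiftHom_symm, shiftHom_symm, MonoidalCategory.whiskerLeft_comp, Category.assoc]
  rw [HB, this]
  exact (shiftHom i j Y).symm.bijective.comp (h.comp (shiftHom i j X).bijective)

/-- Tensoring shifts vanishing. -/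
lemma subsingleton_tensor (i j k : ℤ) (hk : i + j = k) (X : DM A) (h : Subsingleton (S A j ⟶ X)) :
    Subsingleton (S A k ⟶ S A i ⊗ X) := by
  subst hk
  exact (shiftHom i j X).subsingleton

lemma subsingleton_iff (k : ℤ) (X : Dual.D A) : Subsingleton (S A k ⟶ dm X) ↔ IsZero ((H A k).obj X) := by
  have hb : Function.Bijective (fun f : S A k ⟶ dm X => Φ k (show sD A k ⟶ X from f)) := Φ_bijective k X
  constructor
  · intro _
    rw [ModuleCat.isZero_iff_subsingleton]
    refine ⟨fun x y => ?_⟩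
    have : Subsingleton (ModuleCat.of A A ⟶ (H A k).obj X) := hb.2.subsingleton
    have e := Subsingleton.elim (ModuleCat.ofHom (LinearMap.toSpanSingleton A _ x) : ModuleCat.of A A ⟶ (H A k).obj X)
      (ModuleCat.ofHom (LinearMap.toSpanSingleton A _ y))
    simpa using ConcreteCategory.congr_hom e (1 : A)
  · intro hz
    exact ⟨fun f g => hb.1 (hz.eq_of_tgt _ _)⟩

lemma HB_comp_iso (k : ℤ) {X Y Z : DM A} (u : X ⟶ Y) (e : Y ≅ Z) (h : HB k u) : HB k (u ≫ e.hom) := by
  rw [HB, show (fun f : S A k ⟶ X => f ≫ u ≫ e.hom) = (fun g => g ≫ e.hom) ∘ fun f => f ≫ u from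
    funext fun f => (Category.assoc _ _ _).symm]
  exact e.homToEquiv.bijective.comp h

lemma HB_iso_comp (k : ℤ) {X Y Z : DM A} (e : X ≅ Y) (u : Y ⟶ Z) (h : HB k u) : HB k (e.hom ≫ u) := by
  rw [HB, show (fun f : S A k ⟶ X => f ≫ e.hom ≫ u) = (fun g => g ≫ u) ∘ fun f => f ≫ e.hom from
    funext fun f => (Category.assoc _ _ _).symm]
  exact h.comp e.homToEquiv.bijective

lemma HB_of_isIso (k : ℤ) {X Y : DM A} (u : X ⟶ Y) [IsIso u] : HB k u := (asIso u).homToEquiv.bijective

lemma HB_comp (k : ℤ) {X Y Z : DM A} (u : X ⟶ Y) (v : Y ⟶ Z) (hu : HB k u) (hv : HB k v) : HB k (u ≫ v) := by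
  rw [HB, show (fun f : S A k ⟶ X => f ≫ u ≫ v) = (fun g => g ≫ v) ∘ fun f => f ≫ u from
    funext fun f => (Category.assoc _ _ _).symm]
  exact hv.comp hu

lemma HB_of_comp (k : ℤ) {X Y Z : DM A} (u : X ⟶ Y) (v : Y ⟶ Z) (hu : HB k u) (huv : HB k (u ≫ v)) : HB k v := by
  rw [HB, show (fun f : S A k ⟶ X => f ≫ u ≫ v) = (fun g => g ≫ v) ∘ fun f => f ≫ u from
    funext fun f => (Category.assoc _ _ _).symm] at huv
  exact (Function.Bijective.of_comp_iff _ hu).1 huv

end Groth.Agent.KFlat.Amp
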