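import Mathlib.Algebra.Homology.DerivedCategory.KProjective
import Mathlib.Algebra.Homology.DerivedCategory.KInjective
import Mathlib.Algebra.Homology.HomotopyCategory.HomComplexSingle
import Mathlib.Algebra.Homology.HomotopyCategory.KProjective
import Mathlib.Algebra.Homology.HomotopyCategory.KInjective
import Mathlib.Algebra.Homology.SingleHomology
import Mathlib.Algebra.Homology.DerivedCategory.TStructure
import Mathlib.Algebra.Category.ModuleCat.Projective
import Groth.Prelude.Def_DRing2

/-!
Test objects `A[-k]`, and Hom bijectivity criteria in `D(A)` from cohomological amplitude.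
-/

universe u

open CategoryTheory CategoryTheory.Limits CategoryTheory.Pretriangulated HomologicalComplex
  CochainComplex.HomComplex
attribute [local instance] HasDerivedCategory.standard

namespace Groth.Agent.KFlat.Amp

variable {A : Type u} [CommRing A]

/-- `H^k`. -/
noncomputable abbrev H (A : Type u) [CommRing A] (k : ℤ) : Dual.D A ⥤ ModuleCat.{u} A :=
  DerivedCategory.homologyFunctor (ModuleCat.{u} A) k

/-- `A` in degree `k`. -/
noncomputable abbrev sC (A : Type u) [CommRing A] (k : ℤ) : DRing.Cx A :=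
  (single (ModuleCat.{u} A) (ComplexShape.up ℤ) k).obj (ModuleCat.of A A)

/-- `A` in degree `k`, in `D(A)`. -/
noncomputable abbrev sD (A : Type u) [CommRing A] (k : ℤ) : Dual.D A := DerivedCategory.Q.obj (sC A k)

instance projective_self : Projective (ModuleCat.of A A) :=
  (IsProjective.iff_projective (R := A) A).1 inferInstance

instance isKProjective_sC (k : ℤ) : CochainComplex.IsKProjective (sC A k) := by
  have : ∀ n, Projective ((sC A k).X n) := fun n => by
    by_cases h : n = k
    · subst h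
      exact Projective.of_iso (singleObjXSelf (ComplexShape.up ℤ) n (ModuleCat.of A A)).symm inferInstance
    · exact Projective.of_iso (isZero_single_obj_X _ _ _ _ h).isoZero.symm (IsZero.projective (isZero_zero _))
  have : CochainComplex.IsStrictlyLE (sC A k) k :=
    (CochainComplex.isStrictlyLE_iff _ _).2 fun i hi => isZero_single_obj_X _ _ _ _ (by omega)
  exact CochainComplex.isKProjective_of_projective _ k

/-- A map out of `A[-k]` gives a class in `H^k`. -/
noncomputable def Φ (k : ℤ) {X : Dual.D A} (f : sD A k ⟶ X) : ModuleCat.of A A ⟶ (H A k).obj X :=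
  (singleObjHomologySelfIso (ComplexShape.up ℤ) k (ModuleCat.of A A)).inv ≫
    (DerivedCategory.homologyFunctorFactors (ModuleCat.{u} A) k).inv.app (sC A k) ≫ (H A k).map f

lemma Φ_comp (k : ℤ) {X Y : Dual.D A} (f : sD A k ⟶ X) (u : X ⟶ Y) : Φ k (f ≫ u) = Φ k f ≫ (H A k).map u := by
  simp [Φ]

lemma Φ_Q (k : ℤ) {T : DRing.Cx A} (g : sC A k ⟶ T) : Φ k (DerivedCategory.Q.map g) =
    (singleObjHomologySelfIso (ComplexShape.up ℤ) k (ModuleCat.of A A)).inv ≫ homologyMap g k ≫
      (DerivedCategory.homologyFunctorFactors (ModuleCat.{u} A) k).inv.app T := by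
  refine congrArg (fun t => _ ≫ t) ?_
  exact ((DerivedCategory.homologyFunctorFactors (ModuleCat.{u} A) k).inv.naturality g).symm

lemma cyc_g (k : ℤ) {T : DRing.Cx A} (g : sC A k ⟶ T) :
    (singleObjHomologySelfIso (ComplexShape.up ℤ) k (ModuleCat.of A A)).inv ≫ homologyMap g k =
      ((singleObjCyclesSelfIso (ComplexShape.up ℤ) k (ModuleCat.of A A)).inv ≫ cyclesMap g k) ≫ T.homologyπ k := by
  rw [← singleObjCyclesSelfIso_inv_homologyπ, Category.assoc, Category.assoc]
  exact congrArg (fun t => _ ≫ t) (homologyπ_naturality g k)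

lemma Φ_bijective_Q (k : ℤ) (T : DRing.Cx A) :
    Function.Bijective (Φ k : (sD A k ⟶ DerivedCategory.Q.obj T) → _) := by
  have hsurjQ : ∀ f : sD A k ⟶ DerivedCategory.Q.obj T, ∃ g : sC A k ⟶ T, DerivedCategory.Q.map g = f := by
    intro f
    obtain ⟨g', hg'⟩ := (CochainComplex.IsKProjective.Qh_map_bijective (sC A k)
      ((HomotopyCategory.quotient _ _).obj T)).surjective
      ((DerivedCategory.quotientCompQhIso (ModuleCat.{u} A)).hom.app _ ≫ f ≫
        (DerivedCategory.quotientCompQhIso (ModuleCat.{u} A)).inv.app _)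
    obtain ⟨g, rfl⟩ := (HomotopyCategory.quotient _ _).map_surjective g'
    refine ⟨g, ?_⟩
    have h := (DerivedCategory.quotientCompQhIso (ModuleCat.{u} A)).hom.naturality g
    rw [Functor.comp_map, hg'] at h
    exact (cancel_epi ((DerivedCategory.quotientCompQhIso (ModuleCat.{u} A)).hom.app (sC A k))).1 (by simpa using h.symm)
  constructor
  · intro f₁ f₂ h
    obtain ⟨g₁, rfl⟩ := hsurjQ f₁
    obtain ⟨g₂, rfl⟩ := hsurjQ f₂
    rw [Φ_Q, Φ_Q] at h
    simp only [← Category.assoc] at h
    have : IsIso ((DerivedCategory.homologyFunctorFactors (ModuleCat.{u} A) k).inv.app T) := inferInstance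
    replace h : (singleObjHomologySelfIso (ComplexShape.up ℤ) k (ModuleCat.of A A)).inv ≫ homologyMap g₁ k =
        (singleObjHomologySelfIso (ComplexShape.up ℤ) k (ModuleCat.of A A)).inv ≫ homologyMap g₂ k :=
      (asIso ((DerivedCategory.homologyFunctorFactors (ModuleCat.{u} A) k).inv.app T)).homToEquiv.injective h
    rw [← sub_eq_zero, ← Preadditive.comp_sub, ← homologyMap_sub, cyc_g] at h
    have hex : (ShortComplex.mk (T.toCycles (k - 1) k) (T.homologyπ k) (toCycles_comp_homologyπ T _ _)).Exact :=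
      ShortComplex.exact_of_g_is_cokernel _ (T.homologyIsCokernel (k - 1) k (CochainComplex.prev ℤ k))
    let h' : ModuleCat.of A A ⟶ T.X (k - 1) := hex.liftFromProjective _ h
    have hh' : h' ≫ T.d (k - 1) k =
        (singleObjXSelf (ComplexShape.up ℤ) k (ModuleCat.of A A)).inv ≫ (g₁ - g₂).f k := by
      rw [← T.toCycles_i (k - 1) k, ← Category.assoc]
      erw [hex.liftFromProjective_comp]
      rw [Category.assoc, cyclesMap_i, ← Category.assoc]
      simp
    let g₀ : (CochainComplex.singleFunctor (ModuleCat.{u} A) k).obj (ModuleCat.of A A) ⟶ T := g₁ - g₂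
    have hg : Cochain.ofHom g₀ = δ (-1) 0 (Cochain.fromSingleMk h' (show k + (-1) = k - 1 by omega)) +
        Cochain.ofHom 0 := by
      rw [Cochain.ofHom_zero, add_zero, Cochain.δ_fromSingleMk h' (show k + (-1) = k - 1 by omega) 0 k (add_zero k)]
      apply (Cochain.fromSingleEquiv (add_zero k)).injective
      rw [Cochain.fromSingleEquiv_fromSingleMk, hh']
      simp [Cochain.fromSingleEquiv, g₀]
    have ho : Homotopy (g₁ - g₂) 0 := (Cochain.equivHomotopy g₀ 0).symm ⟨_, hg⟩
    have : DerivedCategory.Q.map (g₁ - g₂) = 0 := by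
      have h0 := HomotopyCategory.eq_of_homotopy _ _ ho
      rw [← cancel_epi ((DerivedCategory.quotientCompQhIso (ModuleCat.{u} A)).hom.app _),
        ← (DerivedCategory.quotientCompQhIso (ModuleCat.{u} A)).hom.naturality, Functor.comp_map, h0]
      exact (congrArg (fun t => t ≫ _) ((DerivedCategory.Qh).map_zero _ _)).trans (zero_comp.trans comp_zero.symm)
    rwa [Functor.map_sub, sub_eq_zero] at this
  · intro η
    let η' : ModuleCat.of A A ⟶ T.homology k :=
      η ≫ (DerivedCategory.homologyFunctorFactors (ModuleCat.{u} A) k).hom.app T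
    let ζ := Projective.factorThru η' (T.homologyπ k)
    let g : sC A k ⟶ T := mkHomFromSingle (ζ ≫ T.iCycles k) fun j _ => by
      rw [Category.assoc, iCycles_d, comp_zero]
    refine ⟨DerivedCategory.Q.map g, ?_⟩
    rw [Φ_Q, reassoc_of% (cyc_g k g)]
    have : (singleObjCyclesSelfIso (ComplexShape.up ℤ) k (ModuleCat.of A A)).inv ≫ cyclesMap g k = ζ := by
      rw [← cancel_mono (T.iCycles k), Category.assoc, cyclesMap_i, singleObjCyclesSelfIso_inv_iCycles_assoc]
      erw [mkHomFromSingle_f]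
      rw [Iso.inv_hom_id_assoc]
    rw [reassoc_of% this]
    refine ((Category.assoc _ _ _).symm.trans (congrArg (fun t => t ≫ _) (Projective.factorThru_comp η' _))).trans ?_
    simp [η']
    exact (congrArg (fun t => η ≫ t) ((DerivedCategory.homologyFunctorFactors (ModuleCat.{u} A) k).hom_inv_id_app T)).trans (Category.comp_id _)

lemma Φ_bijective (k : ℤ) (X : Dual.D A) : Function.Bijective (Φ k : (sD A k ⟶ X) → _) := by
  obtain ⟨T, ⟨e⟩⟩ : ∃ T : DRing.Cx A, Nonempty (DerivedCategory.Q.obj T ≅ X) :=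
    ⟨_, ⟨DerivedCategory.Q.objObjPreimageIso X⟩⟩
  have : (Φ k : (sD A k ⟶ X) → _) = (fun t => t ≫ (H A k).map e.hom) ∘ Φ k ∘ fun f => f ≫ e.inv := by
    funext f
    rw [Function.comp_apply, Function.comp_apply, ← Φ_comp, Category.assoc, e.inv_hom_id, Category.comp_id]
  rw [this]
  exact ((((H A k).mapIso e).homToEquiv).bijective).comp ((Φ_bijective_Q k T).comp e.symm.homToEquiv.bijective)

/-- `H^k u` is bijective iff `Hom(A[-k], u)` is. -/
lemma isIso_H_iff (k : ℤ) {X Y : Dual.D A} (u : X ⟶ Y) :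
    IsIso ((H A k).map u) ↔ Function.Bijective fun f : sD A k ⟶ X => f ≫ u := by
  have hc : (Φ k : (sD A k ⟶ Y) → _) ∘ (fun f => f ≫ u) = (fun t => t ≫ (H A k).map u) ∘ Φ k :=
    funext fun f => Φ_comp k f u
  constructor
  · intro _
    have h : Function.Bijective ((Φ k : (sD A k ⟶ Y) → _) ∘ fun f => f ≫ u) :=
      hc ▸ ((asIso ((H A k).map u)).homToEquiv.bijective.comp (Φ_bijective k X))
    exact ⟨h.1.of_comp, fun y => by
      obtain ⟨x, hx⟩ := h.2 (Φ k y)
      exact ⟨x, (Φ_bijective k Y).1 hx⟩⟩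
  · intro hb
    have h : Function.Bijective fun t : ModuleCat.of A A ⟶ (H A k).obj X => t ≫ (H A k).map u := by
      have h' : Function.Bijective ((fun t => t ≫ (H A k).map u) ∘ (Φ k : (sD A k ⟶ X) → _)) :=
        hc ▸ (Φ_bijective k Y).comp hb
      exact (Function.Bijective.of_comp_iff _ (Φ_bijective k X)).1 h'
    rw [ConcreteCategory.isIso_iff_bijective]
    constructor
    · intro x y hxy
      have e := @h.1 (ModuleCat.ofHom (LinearMap.toSpanSingleton A _ x))
        (ModuleCat.ofHom (LinearMap.toSpanSingleton A _ y))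
        (ModuleCat.hom_ext (LinearMap.ext_ring (by simpa using hxy)))
      simpa using ConcreteCategory.congr_hom e (1 : A)
    · intro y
      obtain ⟨t, ht⟩ := h.2 (ModuleCat.ofHom (LinearMap.toSpanSingleton A _ y))
      exact ⟨t (1 : A), (ConcreteCategory.congr_hom ht (1 : A)).trans (by simp)⟩

lemma isIso_iff_forall (X Y : Dual.D A) (u : X ⟶ Y) :
    IsIso u ↔ ∀ k : ℤ, Function.Bijective fun f : sD A k ⟶ X => f ≫ u :=
  (DerivedCategory.isIso_iff (C := ModuleCat.{u} A) u).trans (forall_congr' fun k => isIso_H_iff k u)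

/-- Precomposition is bijective when the cone is orthogonal. -/
lemma bijective_precomp {X X' L : Dual.D A} (u : X ⟶ X')
    (h₀ : ∀ (Z : Dual.D A) (g : X' ⟶ Z) (h : Z ⟶ X⟦(1 : ℤ)⟧), Triangle.mk u g h ∈ distTriang _ →
      (∀ e : Z ⟶ L, e = 0) ∧ ∀ e : Z⟦(-1 : ℤ)⟧ ⟶ L, e = 0) :
    Function.Bijective fun f : X' ⟶ L => u ≫ f := by
  obtain ⟨Z, g, h, hT⟩ := distinguished_cocone_triangle u
  obtain ⟨hZ, hZ'⟩ := h₀ Z g h hT
  constructor
  · intro f₁ f₂ hf
    obtain ⟨e, he⟩ := Triangle.yoneda_exact₂ _ hT (f₁ - f₂)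
      (show u ≫ (f₁ - f₂) = 0 by rw [Preadditive.comp_sub, sub_eq_zero]; exact hf)
    rw [← sub_eq_zero, he]
    exact (congrArg (fun t => g ≫ t) (hZ e)).trans comp_zero
  · intro f
    obtain ⟨e, he⟩ := Triangle.yoneda_exact₂ _ (inv_rot_of_distTriang _ hT) f (hZ' _)
    exact ⟨e, he.symm⟩

lemma cone_homology_zero {X X' Z : Dual.D A} (u : X ⟶ X') (g : X' ⟶ Z) (h : Z ⟶ X⟦(1 : ℤ)⟧)
    (hT : Triangle.mk u g h ∈ distTriang _) (k : ℤ) (h₁ : Epi ((H A k).map u)) (h₂ : Mono ((H A (k + 1)).map u)) :
    IsZero ((H A k).obj Z) := by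
  have e₁ : (H A k).map g = 0 := (DerivedCategory.HomologySequence.epi_homologyMap_mor₁_iff _ hT k).1 h₁
  have e₂ := (DerivedCategory.HomologySequence.mono_homologyMap_mor₁_iff _ hT k (k + 1) rfl).1 h₂
  exact (DerivedCategory.HomologySequence.exact₃ _ hT k (k + 1) rfl).isZero_X₂ e₁ e₂

/-- `Hom(-, L)` for `L ≥ n` only sees cohomology in degrees `≥ n - 1`. -/
lemma bijective_precomp_of_isGE {X X' L : Dual.D A} (n : ℤ) (hL : DerivedCategory.IsGE L n) (u : X ⟶ X')
    (hu : ∀ k : ℤ, n - 1 ≤ k → IsIso ((H A k).map u)) : Function.Bijective fun f : X' ⟶ L => u ≫ f := by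
  refine bijective_precomp u fun Z g h hT => ?_
  have hLE : Z.IsLE (n - 2) := (DerivedCategory.isLE_iff Z _).2 fun k hk => by
    have := hu k (by omega)
    have := hu (k + 1) (by omega)
    exact cone_homology_zero u g h hT k inferInstance inferInstance
  have hLE' : (Z⟦(-1 : ℤ)⟧).IsLE (n - 1) :=
    DerivedCategory.TStructure.t.isLE_shift Z (n - 2) (-1) (n - 1) (by omega)
  exact ⟨fun e => DerivedCategory.TStructure.t.zero_of_isLE_of_isGE e (n - 2) n (by omega) hLE hL,
    fun e => DerivedCategory.TStructure.t.zero_of_isLE_of_isGE e (n - 1) n (by omega) hLE' hL⟩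

/-- Maps from `≥ c` to a bounded complex of injectives living in degrees `< c` vanish. -/
lemma zero_of_isGE_to_inj {X : Dual.D A} (E : DRing.Cx A) (a b c : ℤ) (hE : DRing.VanishesOutside E a b)
    (hI : DRing.TermwiseInjective E) (hc : b < c) (hX : X.IsGE c) (f : X ⟶ DerivedCategory.Q.obj E) : f = 0 := by
  obtain ⟨X', ⟨e, hX'⟩⟩ := hX.ge
  have : E.IsStrictlyGE a := (CochainComplex.isStrictlyGE_iff E a).2 fun i hi => hE i (Or.inl hi)
  have : ∀ n, Injective (E.X n) := fun n => Module.injective_object_of_injective_module (R := A) _ (inj := hI n)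
  have : E.IsKInjective := CochainComplex.isKInjective_of_injective E a
  obtain ⟨g', hg'⟩ := (CochainComplex.IsKInjective.Qh_map_bijective ((HomotopyCategory.quotient _ _).obj X') E).surjective
    ((DerivedCategory.quotientCompQhIso (ModuleCat.{u} A)).hom.app _ ≫ e.inv ≫ f ≫
      (DerivedCategory.quotientCompQhIso (ModuleCat.{u} A)).inv.app _)
  obtain ⟨g, rfl⟩ := (HomotopyCategory.quotient _ _).map_surjective g'
  have hg0 : g = 0 := HomologicalComplex.hom_ext _ _ fun i => by
    by_cases hi : i < c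
    · exact ((CochainComplex.isZero_of_isStrictlyGE X' c i hi)).eq_of_src _ _
    · exact (hE i (Or.inr (by omega))).eq_of_tgt _ _
  rw [hg0] at hg'
  simpa using hg'.symm

/-- `Hom(-, E)` only sees cohomology in degrees `≤ b + 2` for injectives bounded above by `b`. -/
lemma bijective_precomp_of_inj {X X' : Dual.D A} (E : DRing.Cx A) (a b : ℤ) (hE : DRing.VanishesOutside E a b)
    (hI : DRing.TermwiseInjective E) (u : X ⟶ X') (hu : ∀ k : ℤ, k ≤ b + 2 → IsIso ((H A k).map u)) :
    Function.Bijective fun f : X' ⟶ DerivedCategory.Q.obj E => u ≫ f := by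
  refine bijective_precomp u fun Z g h hT => ?_
  have hGE : Z.IsGE (b + 2) := (DerivedCategory.isGE_iff Z _).2 fun k hk => by
    have := hu k (by omega)
    have := hu (k + 1) (by omega)
    exact cone_homology_zero u g h hT k inferInstance inferInstance
  have hGE' : (Z⟦(-1 : ℤ)⟧).IsGE (b + 3) :=
    DerivedCategory.TStructure.t.isGE_shift Z (b + 2) (-1) (b + 3) (by omega)
  exact ⟨fun e => zero_of_isGE_to_inj E a b (b + 2) hE hI (by omega) hGE e,
    fun e => zero_of_isGE_to_inj E a b (b + 3) hE hI (by omega) hGE' e⟩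

end Groth.Agent.KFlat.Amp
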