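import Groth.Agent.KFlat.Amp.Shift
import Groth.Agent.KFlat.Mon.Perfect

/-!
Tensoring a bounded above object with the brutal truncation of a bounded above flat complex.
-/

set_option autoImplicit false

universe u

open CategoryTheory CategoryTheory.Limits MonoidalCategory HomologicalComplex
attribute [local instance] HasDerivedCategory.standard

namespace Groth.Agent.KFlat.Amp

open Groth.Agent.KFlat Groth.Agent.KFlat.Mon

variable {A : Type u} [CommRing A]

/-- A map of complexes invertible in degrees `≥ d` is invertible on `H^k` for `k > d`. -/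
lemma isIso_H_Q {X Y : DRing.Cx A} (g : X ⟶ Y) (d : ℤ) (h : ∀ t : ℤ, d ≤ t → IsIso (g.f t)) (k : ℤ) (hk : d < k) :
    IsIso ((H A k).map (DerivedCategory.Q.map g)) := by
  have h1 : IsIso (g.f ((ComplexShape.up ℤ).prev k)) := h _ (by simp; omega)
  have h2 : IsIso (g.f k) := h _ hk.le
  have h3 : IsIso (g.f ((ComplexShape.up ℤ).next k)) := h _ (by simp; omega)
  have : IsIso (homologyMap g k) :=
    ShortComplex.isIso_homologyMap_of_epi_of_isIso_of_mono' _ (inferInstanceAs (Epi (g.f _)))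
      (inferInstanceAs (IsIso (g.f _))) (inferInstanceAs (Mono (g.f _)))
  exact (NatIso.isIso_map_iff (DerivedCategory.homologyFunctorFactors (ModuleCat.{u} A) k) g).2 this

lemma trunc_bounds {F : DRing.Cx A} (b : ℤ) (hb : DRing.VanishesAbove F b) (hF : DRing.TermwiseFiniteFree F) (m : ℤ) :
    DRing.VanishesOutside (Stupid.trunc F m) m b ∧ DRing.TermwiseFiniteProjective (Stupid.trunc F m) := by
  refine ⟨?_, ?_⟩
  · rintro i (hi | hi)
    · exact Stupid.isZero_X F hi
    · by_cases h : m ≤ i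
      · have := Stupid.isIso_ι F h
        exact (hb i hi).of_iso (asIso ((Stupid.incl F m).f i))
      · exact Stupid.isZero_X F (by omega)
  · intro i
    by_cases h : m ≤ i
    · have := Stupid.isIso_ι F h
      let e := (asIso ((Stupid.incl F m).f i)).toLinearEquiv
      have := (hF i).1
      have := (hF i).2
      exact ⟨Module.Finite.equiv e.symm, Module.Projective.of_equiv e.symm⟩
    · have : Subsingleton ((Stupid.trunc F m).X i) :=
        ModuleCat.subsingleton_of_isZero (Stupid.isZero_X F (by omega))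
      have : Module.Free A ((Stupid.trunc F m).X i) := Module.Free.of_subsingleton A _
      exact ⟨inferInstance, inferInstance⟩

lemma perfect_trunc {F : DRing.Cx A} (b : ℤ) (hb : DRing.VanishesAbove F b) (hF : DRing.TermwiseFiniteFree F) (m : ℤ) :
    DRing.IsPerfect A (DerivedCategory.Q.obj (Stupid.trunc F m)) :=
  ⟨Stupid.trunc F m, m, b, (trunc_bounds b hb hF m).1, (trunc_bounds b hb hF m).2, ⟨Iso.refl _⟩⟩

lemma isKFlat_free {F : DRing.Cx A} (b : ℤ) (hb : DRing.VanishesAbove F b) (hF : DRing.TermwiseFiniteFree F) :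
    DRing.IsKFlat A F :=
  isKFlat_of_boundedAbove b hb fun i => by
    have := (hF i).2
    infer_instance

/-- Tensoring the inclusion of a brutal truncation with a complex bounded above. -/
lemma isIso_whiskerLeft_incl_f (P F : DRing.Cx A) (c m : ℤ) (hP : DRing.VanishesAbove P c) (t : ℤ) (ht : m + c ≤ t) :
    IsIso ((P ◁ Stupid.incl F m).f t) := by
  have hi : ∀ p q : ℤ, p + q = t → p ≤ c → IsIso ((Stupid.incl F m).f q) := fun p q h hp =>
    Stupid.isIso_ι F (show m ≤ q by omega)
  have hz : ∀ (X : DRing.Cx A) (p q : ℤ), ¬ p ≤ c → IsZero (((curriedTensor (ModuleCat.{u} A)).obj (P.X p)).obj (X.X q)) :=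
    fun X p q hp => Functor.map_isZero ((curriedTensor (ModuleCat.{u} A)).flip.obj _) (hP p (by omega))
  refine ⟨mapBifunctorDesc fun p q h => if hp : p ≤ c then
      (haveI := hi p q h hp; P.X p ◁ inv ((Stupid.incl F m).f q)) ≫
        ιTensorObj P (Stupid.trunc F m) p q t h else 0, ?_, ?_⟩
  · refine mapBifunctor.hom_ext fun p q h => ?_
    erw [ι_mapBifunctorMap_assoc, Category.comp_id]
    by_cases hp : p ≤ c
    · have := hi p q h hp
      erw [ι_mapBifunctorDesc]
      rw [dif_pos hp]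
      simp [← MonoidalCategory.whiskerLeft_comp_assoc]
    · exact (hz _ p q hp).eq_of_src _ _
  · refine mapBifunctor.hom_ext fun p q h => ?_
    erw [ι_mapBifunctorDesc_assoc, Category.comp_id]
    by_cases hp : p ≤ c
    · have := hi p q h hp
      rw [dif_pos hp, Category.assoc]
      erw [ι_mapBifunctorMap]
      simp [← MonoidalCategory.whiskerLeft_comp_assoc]
    · rw [dif_neg hp, zero_comp]
      exact (hz _ p q hp).eq_of_src _ _

variable [DTen.HasLTen A]

/-- Tensoring with `≤ c` preserves isomorphisms in high degrees. -/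
lemma HB_whiskerLeft_incl {F : DRing.Cx A} (b : ℤ) (hb : DRing.VanishesAbove F b) (hF : DRing.TermwiseFiniteFree F)
    (m c : ℤ) (Z : Dual.D A) (hZ : Z.IsLE c) (k : ℤ) (hk : m + c < k) :
    HB k (dm Z ◁ (show dm (DerivedCategory.Q.obj (Stupid.trunc F m)) ⟶ dm (DerivedCategory.Q.obj F) from
      DerivedCategory.Q.map (Stupid.incl F m))) := by
  obtain ⟨P, hP, ⟨e⟩⟩ := Z.exists_iso_Q_obj_of_isLE c
  set φ : dm (DerivedCategory.Q.obj (Stupid.trunc F m)) ⟶ dm (DerivedCategory.Q.obj F) :=
    DerivedCategory.Q.map (Stupid.incl F m) with hφ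
  have hP' : DRing.VanishesAbove P c := fun i hi => P.isZero_of_isStrictlyLE c i hi
  have i₁ := isIso_ε P (Stupid.trunc F m)
    (Or.inr (isKFlat_of_perfectCx _ m b (trunc_bounds b hb hF m).1 (trunc_bounds b hb hF m).2))
  have i₂ := isIso_ε P F (Or.inr (isKFlat_free b hb hF))
  let ζ : dm Z ≅ dm (DerivedCategory.Q.obj P) := e
  let E (X : DRing.Cx A) (hX : IsIso ((DTen.ε A).app (P, X))) :
      dm Z ⊗ dm (DerivedCategory.Q.obj X) ≅ dm (DerivedCategory.Q.obj (P ⊗ X)) :=
    whiskerRightIso ζ _ ≪≫ (θi (DerivedCategory.Q.obj P) (DerivedCategory.Q.obj X)).symm ≪≫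
      @asIso (Dual.D A) _ _ _ ((DTen.ε A).app (P, X)) hX
  have n1 : ltm (𝟙 (dm (DerivedCategory.Q.obj P))) φ ≫
      (show dm ((DTen.LTen₂ A).obj (DerivedCategory.Q.obj P, DerivedCategory.Q.obj F)) ⟶ dm (DerivedCategory.Q.obj (P ⊗ F))
        from (DTen.ε A).app (P, F)) =
      (show dm ((DTen.LTen₂ A).obj (DerivedCategory.Q.obj P, DerivedCategory.Q.obj (Stupid.trunc F m))) ⟶
          dm (DerivedCategory.Q.obj (P ⊗ Stupid.trunc F m)) from (DTen.ε A).app (P, Stupid.trunc F m)) ≫
        (show dm (DerivedCategory.Q.obj (P ⊗ Stupid.trunc F m)) ⟶ dm (DerivedCategory.Q.obj (P ⊗ F)) from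
          DerivedCategory.Q.map (P ◁ Stupid.incl F m)) := by
    have h := (DTen.ε A).naturality (X := (P, Stupid.trunc F m)) (Y := (P, F)) (Prod.mkHom (𝟙 P) (Stupid.incl F m))
    have e1 : (DTen.QQ A).map (Prod.mkHom (𝟙 P) (Stupid.incl F m)) =
        Prod.mkHom (𝟙 (DerivedCategory.Q.obj P)) (DerivedCategory.Q.map (Stupid.incl F m)) :=
      Prod.ext (DerivedCategory.Q.map_id P) rfl
    have e2 : (DTen.tensor₂ A).map (X := (P, Stupid.trunc F m)) (Y := (P, F)) (Prod.mkHom (𝟙 P) (Stupid.incl F m)) =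
        DerivedCategory.Q.map (P ◁ Stupid.incl F m) := by
      refine congrArg (fun t => DerivedCategory.Q.map t) ?_
      simp
    rw [Functor.comp_map, e1, e2] at h
    exact h
  have n2 : dm Z ◁ φ ≫ (E F i₂).hom = (E (Stupid.trunc F m) i₁).hom ≫
      (show dm (DerivedCategory.Q.obj (P ⊗ Stupid.trunc F m)) ⟶ dm (DerivedCategory.Q.obj (P ⊗ F)) from
        DerivedCategory.Q.map (P ◁ Stupid.incl F m)) := by
    have hn := θi_natural (𝟙 (dm (DerivedCategory.Q.obj P))) φ
    rw [id_tensorHom, ← Iso.eq_comp_inv, Category.assoc] at hn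
    simp only [E, Iso.trans_hom, whiskerRightIso_hom, Iso.symm_hom, Category.assoc]
    rw [whisker_exchange_assoc]
    refine congrArg (fun t => ζ.hom ▷ _ ≫ t) ?_
    refine Eq.trans ?_ (congrArg (fun t => (θi _ _).inv ≫ t) n1)
    rw [← Category.assoc, ← Category.assoc, hn, Iso.inv_hom_id_assoc]
    rfl
  have hb' : IsIso ((H A k).map (DerivedCategory.Q.map (P ◁ Stupid.incl F m))) :=
    isIso_H_Q _ (m + c) (fun t ht => isIso_whiskerLeft_incl_f P F c m hP' t ht) k hk
  have hH : HB k (show dm (DerivedCategory.Q.obj (P ⊗ Stupid.trunc F m)) ⟶ dm (DerivedCategory.Q.obj (P ⊗ F)) from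
      DerivedCategory.Q.map (P ◁ Stupid.incl F m)) :=
    (HB_iff k _).2 hb'
  have hh : dm Z ◁ φ = (E (Stupid.trunc F m) i₁).hom ≫
      (show dm (DerivedCategory.Q.obj (P ⊗ Stupid.trunc F m)) ⟶ dm (DerivedCategory.Q.obj (P ⊗ F)) from
        DerivedCategory.Q.map (P ◁ Stupid.incl F m)) ≫ (E F i₂).inv := by
    rw [← reassoc_of% n2, Iso.hom_inv_id, Category.comp_id]
  rw [hh]
  exact HB_iso_comp k _ _ (HB_comp_iso k _ (E F i₂).symm hH)

end Groth.Agent.KFlat.Amp
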